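import Groth.Agent.Pi1.K251.PartB1
import Groth.Agent.Pi1.K158.PartB2

/-!
# D1-ES, Part B

`partB`: coherent families of framed local solutions give a global solution.
-/

set_option autoImplicit false
set_option linter.dupNamespace false
universe u

open CategoryTheory CategoryTheory.Limits AlgebraicGeometry IsLocalRing

namespace K251.D1PartB

open K260.D1

/-- **Part B** of the proof of essential surjectivity for proper morphisms. -/
theorem partB (hG : Glue.{u}) (hD : TrivDesc.{u}) : PartB.{u} := by
  intro R _ _ hR hR' X Z W T p j w t hp hj hjq hw ht G _ _ P₀ ρ₀ hP I B b F hb hcov hcoh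
  obtain ⟨Q, ρ, hQ, τ, hτ, hc⟩ := K251.PartB1.exists_Q hG hD hR hR' p hp hj hjq ht F hb hcov hcoh
  exact K158.PartB2.comes hG R hR hR' p j w t hp hj hjq hw ht G P₀ ρ₀ hP I B b F hb hcov hcoh Q ρ hQ τ hτ
    fun z _ => hc z

end K251.D1PartB
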