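import Groth.Agent.Pi1.K251.Prin

/-!
# Isomorphisms of principal covers from equivariant functions

`exists_iso`: an equivariant locally constant function `ε : Q ×_X P₀ ⟶ G` (`Q` principal over `X`, `P₀` principal over
`W`, `w : W ⟶ X`) defines an isomorphism `Q ×_X W ≅ P₀`, with graph `ε = 1`.
-/

set_option autoImplicit false
set_option linter.dupNamespace false
universe u

open CategoryTheory CategoryTheory.Limits AlgebraicGeometry

namespace K251.Graph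

open Groth.Agent.Pi1A.FEtAffine K251.Prin

variable {X W : Scheme.{u}} {w : W ⟶ X} {G : Type} [Group G] {Q : FEt.Cat X} {ρQ : G →* Aut Q} {P₀ : FEt.Cat W}
  {ρ₀ : G →* Aut P₀}

/-- The value at a pair of geometric points. -/
noncomputable def ev (ε : ↥(pullback Q.hom (P₀.hom ≫ w)) → G) {K : Type u} [Field K]
    (q : Spec (CommRingCat.of K) ⟶ Q.left) (p : Spec (CommRingCat.of K) ⟶ P₀.left)
    (e : q ≫ Q.hom = p ≫ P₀.hom ≫ w) : G :=
  ε (pullback.lift q p e default)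

theorem ev_congr (ε : ↥(pullback Q.hom (P₀.hom ≫ w)) → G) {K : Type u} [Field K]
    {q q' : Spec (CommRingCat.of K) ⟶ Q.left} {p p' : Spec (CommRingCat.of K) ⟶ P₀.left}
    (e : q ≫ Q.hom = p ≫ P₀.hom ≫ w) (e' : q' ≫ Q.hom = p' ≫ P₀.hom ≫ w) (h : q = q') (h' : p = p') :
    ev ε q p e = ev ε q' p' e' := by
  subst h h'
  rfl

/-- Equivariance of a function on `Q ×_X P₀`. -/
def Equi (ρQ : G →* Aut Q) (ρ₀ : G →* Aut P₀) (ε : ↥(pullback Q.hom (P₀.hom ≫ w)) → G) : Prop :=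
  ∀ (K : Type u) [Field K] [IsAlgClosed K] (q : Spec (CommRingCat.of K) ⟶ Q.left)
    (p : Spec (CommRingCat.of K) ⟶ P₀.left) (e : q ≫ Q.hom = p ≫ P₀.hom ≫ w) (g g' : G)
    (f : (q ≫ am ρQ g) ≫ Q.hom = (p ≫ am ρ₀ g') ≫ P₀.hom ≫ w),
    ev ε (q ≫ am ρQ g) (p ≫ am ρ₀ g') f = g' * ev ε q p e * g⁻¹

theorem am_w (g g' : G) {K : Type u} [Field K] (q : Spec (CommRingCat.of K) ⟶ Q.left)
    (p : Spec (CommRingCat.of K) ⟶ P₀.left) (e : q ≫ Q.hom = p ≫ P₀.hom ≫ w) :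
    (q ≫ am ρQ g) ≫ Q.hom = (p ≫ am ρ₀ g') ≫ P₀.hom ≫ w := by
  rw [Category.assoc, am_hom, Category.assoc, am_hom_assoc, e]

section main

variable (hQ : SGA1t.IsPrincipal G Q ρQ) (hP : SGA1t.IsPrincipal G P₀ ρ₀) {ε : ↥(pullback Q.hom (P₀.hom ≫ w)) → G}
  (hc : IsLocallyConstant ε) (hε : Equi ρQ ρ₀ ε)

include hQ hP hε in
theorem eq_of_ev {K : Type u} [Field K] [IsAlgClosed K] {q : Spec (CommRingCat.of K) ⟶ Q.left}
    {p p' : Spec (CommRingCat.of K) ⟶ P₀.left} (e : q ≫ Q.hom = p ≫ P₀.hom ≫ w)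
    (e' : q ≫ Q.hom = p' ≫ P₀.hom ≫ w) (hp : p ≫ P₀.hom = p' ≫ P₀.hom) (h : ev ε q p e = 1)
    (h' : ev ε q p' e' = 1) : p = p' := by
  obtain ⟨g, rfl⟩ := exists_am hP p p' hp
  have h1 := hε K q p e 1 g (am_w _ _ _ _ e)
  rw [ev_congr ε _ e' (by rw [am_one, Category.comp_id]) rfl, h', h] at h1
  have h2 : g = 1 := by simpa using h1.symm
  rw [h2, am_one, Category.comp_id]

include hQ hε in
theorem eq_of_ev' {K : Type u} [Field K] [IsAlgClosed K] {q q' : Spec (CommRingCat.of K) ⟶ Q.left}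
    {p : Spec (CommRingCat.of K) ⟶ P₀.left} (e : q ≫ Q.hom = p ≫ P₀.hom ≫ w)
    (e' : q' ≫ Q.hom = p ≫ P₀.hom ≫ w) (h : ev ε q p e = 1) (h' : ev ε q' p e' = 1) : q = q' := by
  obtain ⟨g, rfl⟩ := exists_am hQ q q' (e.trans e'.symm)
  have h1 := hε K q p e g 1 (am_w _ _ _ _ e)
  rw [ev_congr ε _ e' rfl (by rw [am_one, Category.comp_id]), h', h] at h1
  have h2 : g = 1 := by simpa using h1.symm
  rw [h2, am_one, Category.comp_id]

/-- The graph. -/
noncomputable def gr (hc : IsLocallyConstant ε) : (pullback Q.hom (P₀.hom ≫ w)).Opens := ⟨ε ⁻¹' {1}, hc {1}⟩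

theorem exists_gr {K : Type u} [Field K] (q : Spec (CommRingCat.of K) ⟶ Q.left)
    (p : Spec (CommRingCat.of K) ⟶ P₀.left) (e : q ≫ Q.hom = p ≫ P₀.hom ≫ w) (h : ev ε q p e = 1) :
    ∃ u : Spec (CommRingCat.of K) ⟶ (gr hc).toScheme, u ≫ (gr hc).ι = pullback.lift q p e := by
  refine ⟨IsOpenImmersion.lift (gr hc).ι (pullback.lift q p e) ?_, IsOpenImmersion.lift_fac _ _ _⟩
  rintro _ ⟨z, rfl⟩
  have hz : z = (default : ↥(Spec (CommRingCat.of K))) := Subsingleton.elim (α := PrimeSpectrum K) _ _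
  rw [hz, Scheme.Opens.range_ι]
  exact h

theorem ev_gr {K : Type u} [Field K] (u : Spec (CommRingCat.of K) ⟶ (gr hc).toScheme)
    (e : (u ≫ (gr hc).ι ≫ pullback.fst _ _) ≫ Q.hom = (u ≫ (gr hc).ι ≫ pullback.snd _ _) ≫ P₀.hom ≫ w) :
    ev ε (u ≫ (gr hc).ι ≫ pullback.fst _ _) (u ≫ (gr hc).ι ≫ pullback.snd _ _) e = 1 := by
  have h1 : pullback.lift (u ≫ (gr hc).ι ≫ pullback.fst Q.hom (P₀.hom ≫ w)) (u ≫ (gr hc).ι ≫ pullback.snd _ _) e =
      u ≫ (gr hc).ι := by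
    apply pullback.hom_ext
    · rw [pullback.lift_fst, Category.assoc]
    · rw [pullback.lift_snd, Category.assoc]
  rw [ev, h1, Scheme.Hom.comp_apply]
  exact (u default).2

theorem gr_w : ((gr hc).ι ≫ pullback.fst Q.hom (P₀.hom ≫ w)) ≫ Q.hom =
    ((gr hc).ι ≫ pullback.snd Q.hom (P₀.hom ≫ w) ≫ P₀.hom) ≫ w := by
  rw [Category.assoc, pullback.condition, Category.assoc, Category.assoc]

/-- The graph maps to `Q ×_X W`. -/
noncomputable def ga : (gr hc).toScheme ⟶ pullback Q.hom w :=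
  pullback.lift ((gr hc).ι ≫ pullback.fst _ _) ((gr hc).ι ≫ pullback.snd _ _ ≫ P₀.hom) (gr_w hc)

/-- The graph maps to `P₀`. -/
noncomputable def gb : (gr hc).toScheme ⟶ P₀.left := (gr hc).ι ≫ pullback.snd _ _

theorem ga_fst : ga hc ≫ pullback.fst _ _ = (gr hc).ι ≫ pullback.fst _ _ := pullback.lift_fst _ _ _

theorem ga_snd : ga hc ≫ pullback.snd _ _ = gb hc ≫ P₀.hom :=
  (pullback.lift_snd _ _ _).trans (Category.assoc _ _ _).symm

theorem etale_gb : Etale (gb hc) := by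
  have hE : Etale Q.hom := Q.prop.2
  have : Etale (pullback.snd Q.hom (P₀.hom ≫ w)) := inferInstance
  exact inferInstanceAs (Etale ((gr hc).ι ≫ pullback.snd _ _))

theorem etale_ga : Etale (ga hc) := by
  have hE : Etale Q.hom := Q.prop.2
  have hE' : Etale P₀.hom := P₀.prop.2
  have h1 := etale_gb hc
  have h2 : Etale (ga hc ≫ pullback.snd Q.hom w) := by
    rw [ga_snd]
    infer_instance
  exact Etale.of_comp (ga hc) (pullback.snd Q.hom w)

include hQ hε in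
theorem isIso_gb : IsIso (gb hc) := by
  have := etale_gb hc
  refine K868.GeomLem.isIso_of_geom (gb hc) fun K _ _ p => ?_
  have hE : Etale Q.hom := Q.prop.2
  obtain ⟨q, hq⟩ := exists_lift_range Q.hom (p ≫ P₀.hom ≫ w) default (hQ.1 _)
  have h1 := hε K q p hq (ev ε q p hq) 1 (am_w _ _ _ _ hq)
  rw [one_mul, mul_inv_cancel] at h1
  have e' : (q ≫ am ρQ (ev ε q p hq)) ≫ Q.hom = p ≫ P₀.hom ≫ w := by rw [Category.assoc, am_hom, hq]
  rw [ev_congr ε _ e' rfl (by rw [am_one, Category.comp_id])] at h1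
  obtain ⟨u, hu⟩ := exists_gr hc _ _ e' h1
  refine ⟨u, ?_, fun v hv => ?_⟩
  · change u ≫ (gr hc).ι ≫ pullback.snd _ _ = p
    rw [← Category.assoc, hu, pullback.lift_snd]
  · have hv' : v ≫ (gr hc).ι ≫ pullback.snd _ _ = p := hv
    rw [← cancel_mono (gr hc).ι, hu]
    have e3 : (v ≫ (gr hc).ι ≫ pullback.fst _ _) ≫ Q.hom = (v ≫ (gr hc).ι ≫ pullback.snd _ _) ≫ P₀.hom ≫ w := by
      rw [Category.assoc, Category.assoc, Category.assoc, Category.assoc, pullback.condition]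
    have h2 := ev_gr hc v e3
    have e4 : (v ≫ (gr hc).ι ≫ pullback.fst _ _) ≫ Q.hom = p ≫ P₀.hom ≫ w := by rw [e3, hv']
    rw [ev_congr ε _ e4 rfl hv'] at h2
    have h3 := eq_of_ev' hQ hε e4 e' h2 h1
    apply pullback.hom_ext
    · rw [Category.assoc, h3, pullback.lift_fst]
    · rw [Category.assoc, hv', pullback.lift_snd]

include hQ hP hε in
theorem isIso_ga : IsIso (ga hc) := by
  have := etale_ga hc
  refine K868.GeomLem.isIso_of_geom (ga hc) fun K _ _ y => ?_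
  have hE : Etale P₀.hom := P₀.prop.2
  obtain ⟨p, hp⟩ := exists_lift_range P₀.hom (y ≫ pullback.snd _ _) default (hP.1 _)
  have e : (y ≫ pullback.fst _ _) ≫ Q.hom = p ≫ P₀.hom ≫ w := by
    rw [← Category.assoc p, hp, Category.assoc, Category.assoc, pullback.condition]
  have h1 := hε K _ p e 1 (ev ε _ p e)⁻¹ (am_w _ _ _ _ e)
  rw [inv_mul_cancel, one_mul, inv_one] at h1
  have e' : (y ≫ pullback.fst _ _) ≫ Q.hom = (p ≫ am ρ₀ (ev ε _ p e)⁻¹) ≫ P₀.hom ≫ w := by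
    rw [e, Category.assoc, am_hom_assoc]
  rw [ev_congr ε _ e' (by rw [am_one, Category.comp_id]) rfl] at h1
  obtain ⟨u, hu⟩ := exists_gr hc _ _ e' h1
  have hu1 : u ≫ (gr hc).ι ≫ pullback.fst _ _ = y ≫ pullback.fst _ _ := by
    rw [← Category.assoc, hu, pullback.lift_fst]
  have hu2 : u ≫ (gr hc).ι ≫ pullback.snd _ _ = p ≫ am ρ₀ (ev ε _ p e)⁻¹ := by
    rw [← Category.assoc, hu, pullback.lift_snd]
  refine ⟨u, ?_, fun v hv => ?_⟩
  · apply pullback.hom_ext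
    · rw [Category.assoc, ga_fst, hu1]
    · rw [Category.assoc, ga_snd, gb, ← Category.assoc, hu2, Category.assoc, am_hom, hp]
  · have hv1 : v ≫ (gr hc).ι ≫ pullback.fst _ _ = y ≫ pullback.fst _ _ := by
      rw [← hv, Category.assoc, ga_fst]
    have hv2 : (v ≫ (gr hc).ι ≫ pullback.snd _ _) ≫ P₀.hom = y ≫ pullback.snd _ _ := by
      rw [← hv, Category.assoc v (ga hc), ga_snd, gb, Category.assoc, Category.assoc]
    have e3 : (v ≫ (gr hc).ι ≫ pullback.fst _ _) ≫ Q.hom = (v ≫ (gr hc).ι ≫ pullback.snd _ _) ≫ P₀.hom ≫ w := by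
      rw [Category.assoc, Category.assoc, Category.assoc, Category.assoc, pullback.condition]
    have h2 := ev_gr hc v e3
    have e4 : (y ≫ pullback.fst _ _) ≫ Q.hom = (v ≫ (gr hc).ι ≫ pullback.snd _ _) ≫ P₀.hom ≫ w := by
      rw [← e3, hv1]
    rw [ev_congr ε _ e4 hv1 rfl] at h2
    have h3 := eq_of_ev hQ hP hε e4 e' (by rw [hv2, Category.assoc, am_hom, hp]) h2 h1
    rw [← cancel_mono (gr hc).ι, hu]
    apply pullback.hom_ext
    · rw [Category.assoc, hv1, pullback.lift_fst]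
    · rw [Category.assoc, h3, pullback.lift_snd]

include hQ hP hε in
theorem comp_eq (e₀ : pullback Q.hom w ⟶ P₀.left) (hw : e₀ ≫ P₀.hom = pullback.snd Q.hom w)
    (hf : ∀ (K : Type u) [Field K] (t : Spec (CommRingCat.of K) ⟶ pullback Q.hom w),
      (t ≫ pullback.fst _ _) ≫ Q.hom = (t ≫ e₀) ≫ P₀.hom ≫ w)
    (key : ∀ (K : Type u) [Field K] (t : Spec (CommRingCat.of K) ⟶ pullback Q.hom w),
      ev ε (t ≫ pullback.fst _ _) (t ≫ e₀) (hf K t) = 1) (x : G) (m : pullback Q.hom w ⟶ pullback Q.hom w)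
    (h1 : m ≫ pullback.fst Q.hom w = pullback.fst Q.hom w ≫ am ρQ x)
    (h2 : m ≫ pullback.snd Q.hom w = pullback.snd Q.hom w) : m ≫ e₀ = e₀ ≫ am ρ₀ x := by
  have hE' : Etale P₀.hom := P₀.prop.2
  refine K868.GeomLem.eq_of_geom P₀.hom _ _ ?_ fun K _ _ t => ?_
  · rw [Category.assoc, hw, h2, Category.assoc, am_hom, hw]
  · have k1 := key K (t ≫ m)
    have k2 := hε K _ _ (hf K t) x x (am_w _ _ _ _ (hf K t))
    rw [key K t, mul_one, mul_inv_cancel] at k2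
    have e1 : (t ≫ m) ≫ pullback.fst Q.hom w = (t ≫ pullback.fst Q.hom w) ≫ am ρQ x := by
      rw [Category.assoc, h1, Category.assoc]
    have e2 : ((t ≫ pullback.fst Q.hom w) ≫ am ρQ x) ≫ Q.hom = ((t ≫ m) ≫ e₀) ≫ P₀.hom ≫ w := by
      rw [← e1]
      exact hf K _
    rw [ev_congr ε _ e2 e1 rfl] at k1
    have k3 := eq_of_ev hQ hP hε e2 (am_w _ _ _ _ (hf K t)) (by
      rw [Category.assoc, Category.assoc, hw, h2, Category.assoc, am_hom, Category.assoc, hw]) k1 k2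
    rw [← Category.assoc, k3, Category.assoc]

include hQ hP hc hε in
/-- **An equivariant function defines an isomorphism.** -/
theorem exists_iso : ∃ e : (FEt.restrict w).obj Q ≅ P₀,
    ∀ x : G, (FEt.restrict w).map (ρQ x).hom ≫ e.hom = e.hom ≫ (ρ₀ x).hom := by
  have i1 := isIso_gb hQ hc hε
  have i2 := isIso_ga hQ hP hc hε
  have hE' : Etale P₀.hom := P₀.prop.2
  let e₀ : pullback Q.hom w ≅ P₀.left := (asIso (ga hc)).symm ≪≫ asIso (gb hc)
  have he₀ : e₀.hom = inv (ga hc) ≫ gb hc := rfl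
  have hw : e₀.hom ≫ P₀.hom = pullback.snd Q.hom w := by
    rw [he₀, Category.assoc, ← ga_snd, IsIso.inv_hom_id_assoc]
  let e : (FEt.restrict w).obj Q ≅ P₀ := isoMk e₀ hw
  -- the value on the graph of `e₀`
  have key : ∀ (K : Type u) [Field K] (t : Spec (CommRingCat.of K) ⟶ pullback Q.hom w)
      (f : (t ≫ pullback.fst _ _) ≫ Q.hom = (t ≫ e₀.hom) ≫ P₀.hom ≫ w),
      ev ε (t ≫ pullback.fst _ _) (t ≫ e₀.hom) f = 1 := by
    intro K _ t f
    have h1 : (t ≫ inv (ga hc)) ≫ (gr hc).ι ≫ pullback.fst _ _ = t ≫ pullback.fst _ _ := by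
      rw [← ga_fst, Category.assoc, IsIso.inv_hom_id_assoc]
    have h2 : (t ≫ inv (ga hc)) ≫ (gr hc).ι ≫ pullback.snd _ _ = t ≫ e₀.hom := by
      rw [he₀, Category.assoc]
      rfl
    have e3 : ((t ≫ inv (ga hc)) ≫ (gr hc).ι ≫ pullback.fst _ _) ≫ Q.hom =
        ((t ≫ inv (ga hc)) ≫ (gr hc).ι ≫ pullback.snd _ _) ≫ P₀.hom ≫ w := by
      rw [h1, h2, f]
    rw [← ev_gr hc (t ≫ inv (ga hc)) e3]
    exact ev_congr ε _ _ h1.symm h2.symm
  have hf : ∀ (K : Type u) [Field K] (t : Spec (CommRingCat.of K) ⟶ pullback Q.hom w),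
      (t ≫ pullback.fst _ _) ≫ Q.hom = (t ≫ e₀.hom) ≫ P₀.hom ≫ w := by
    intro K _ t
    rw [Category.assoc, Category.assoc, reassoc_of% hw, pullback.condition]
  refine ⟨e, fun x => ?_⟩
  apply MorphismProperty.Over.Hom.ext
  exact comp_eq hQ hP hε e₀.hom hw hf (fun K _ t => key K t _) x _ (map_left_proj w (ρQ x).hom)
    (hom_w ((FEt.restrict w).map (ρQ x).hom))

end main

end K251.Graph
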