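import Groth.Prelude.Def_SGA1t
import Groth.Agent.Pi1A.FEtAffine
import Groth.Agent.Pi1.K868.GeomLem
import Mathlib.AlgebraicGeometry.AlgClosed.Basic
import Mathlib.AlgebraicGeometry.Morphisms.Integral

/-!
# Calculus of principal covers with geometric points

* `am ρ g`: the action on the total space; `exists_am`, `am_inj`;
* `exists_dif`: the difference function of two maps to a principal cover is locally constant;
* `exists_quot`: descent of locally constant functions along closed surjective morphisms;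
* `exists_lift_range`, `exists_lift_integral`: lifting of geometric points;
* `exists_section_integral`: rational points of integral schemes over algebraically closed fields.
-/

set_option autoImplicit false
set_option linter.dupNamespace false
universe u

open CategoryTheory CategoryTheory.Limits AlgebraicGeometry

namespace K251.Prin

open Groth.Agent.Pi1A.FEtAffine

section points

/-- Two maps to an étale scheme agree at a geometric point iff the point lies in the equaliser locus. -/
theorem mem_eqLocus {N A X : Scheme.{u}} (f : A ⟶ X) [Etale f] (a b : N ⟶ A) (h : a ≫ f = b ≫ f)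
    {K : Type u} [Field K] (n : Spec (CommRingCat.of K) ⟶ N) (z : Spec (CommRingCat.of K)) :
    pullback.lift a b h (n z) ∈ Set.range (pullback.diagonal f) ↔ n ≫ a = n ≫ b := by
  constructor
  · intro hz
    have hr : Set.range (n ≫ pullback.lift a b h) ⊆ Set.range (pullback.diagonal f) := by
      rintro _ ⟨q, rfl⟩
      rw [Subsingleton.elim (α := PrimeSpectrum K) q z]
      exact hz
    let l := IsOpenImmersion.lift (pullback.diagonal f) _ hr
    have hl : l ≫ pullback.diagonal f = n ≫ pullback.lift a b h := IsOpenImmersion.lift_fac _ _ _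
    have h1 := congrArg (· ≫ pullback.fst f f) hl
    have h2 := congrArg (· ≫ pullback.snd f f) hl
    simp only [Category.assoc, pullback.diagonal_fst, pullback.diagonal_snd, pullback.lift_fst,
      pullback.lift_snd, Category.comp_id] at h1 h2
    exact h1.symm.trans h2
  · intro hn
    have hn' : n ≫ pullback.lift a b h = (n ≫ a) ≫ pullback.diagonal f := by
      apply pullback.hom_ext
      · rw [Category.assoc, pullback.lift_fst, Category.assoc, pullback.diagonal_fst, Category.comp_id]
      · rw [Category.assoc, pullback.lift_snd, Category.assoc, pullback.diagonal_snd, Category.comp_id, hn]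
    refine ⟨(n ≫ a) z, ?_⟩
    rw [← Scheme.Hom.comp_apply, ← hn']
    rfl

/-- Lifting of geometric points along morphisms locally of finite type. -/
theorem exists_lift_range {V Z : Scheme.{u}} (a : V ⟶ Z) [LocallyOfFiniteType a] {K : Type u} [Field K]
    [IsAlgClosed K] (t : Spec (CommRingCat.of K) ⟶ Z) (z : Spec (CommRingCat.of K)) (h : t z ∈ Set.range a) :
    ∃ l : Spec (CommRingCat.of K) ⟶ V, l ≫ a = t := by
  obtain ⟨v, hv⟩ := h
  obtain ⟨w, -, -⟩ := Scheme.Pullback.exists_preimage_pullback v z hv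
  have : JacobsonSpace ↥(pullback a t) := LocallyOfFiniteType.jacobsonSpace (pullback.snd a t)
  have h : (closedPoints ↥(pullback a t)).Nonempty := by
    rw [Set.nonempty_iff_ne_empty]
    intro h0
    have h1 := closure_closedPoints (X := ↥(pullback a t))
    rw [h0, closure_empty] at h1
    have : Nonempty ↥(pullback a t) := ⟨w⟩
    exact Set.empty_ne_univ h1
  obtain ⟨x, hx⟩ := h
  refine ⟨pointOfClosedPoint (pullback.snd a t) x hx ≫ pullback.fst a t, ?_⟩
  have h2 := pointOfClosedPoint_comp (pullback.snd a t) x hx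
  rw [Category.assoc, pullback.condition, ← Category.assoc, h2, Category.id_comp]

/-- A nonempty scheme integral over an algebraically closed field has a rational point. -/
theorem exists_section_integral {T : Scheme.{u}} {K : Type u} [Field K] [IsAlgClosed K]
    (f : T ⟶ Spec (CommRingCat.of K)) [IsIntegralHom f] (t : T) :
    ∃ s : Spec (CommRingCat.of K) ⟶ T, s ≫ f = 𝟙 _ := by
  have haff : IsAffine T := isAffine_of_isAffineHom f
  let A := Γ(T, ⊤)
  let e := T.isoSpec
  obtain ⟨φ, hφ⟩ : ∃ φ : CommRingCat.of K ⟶ A, Spec.map φ = e.inv ≫ f := ⟨_, Spec.map_preimage _⟩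
  have hint : φ.hom.IsIntegral := by
    rw [← IsIntegralHom.SpecMap_iff, hφ]
    infer_instance
  let _ : Algebra K A := φ.hom.toAlgebra
  let p : PrimeSpectrum A := e.hom t
  have : Algebra.IsIntegral K A := ⟨hint⟩
  have hb : Function.Bijective (algebraMap K (A ⧸ p.asIdeal)) :=
    IsAlgClosed.algebraMap_bijective_of_isIntegral
  let r : (A ⧸ p.asIdeal) ≃+* K := (RingEquiv.ofBijective _ hb).symm
  let ψ : A →+* K := (r : (A ⧸ p.asIdeal) →+* K).comp (Ideal.Quotient.mk p.asIdeal)
  have hψ : ψ.comp φ.hom = RingHom.id K := by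
    ext x
    exact (RingEquiv.ofBijective _ hb).symm_apply_apply x
  refine ⟨Spec.map (CommRingCat.ofHom ψ) ≫ e.inv, ?_⟩
  rw [Category.assoc, ← hφ, ← Spec.map_comp]
  have : φ ≫ CommRingCat.ofHom ψ = 𝟙 _ := CommRingCat.hom_ext hψ
  rw [this]
  exact Spec.map_id _

/-- Lifting of geometric points along integral morphisms. -/
theorem exists_lift_integral {Y' Y : Scheme.{u}} (π : Y' ⟶ Y) [IsIntegralHom π] [Surjective π] {K : Type u} [Field K]
    [IsAlgClosed K] (y : Spec (CommRingCat.of K) ⟶ Y) : ∃ x : Spec (CommRingCat.of K) ⟶ Y', x ≫ π = y := by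
  obtain ⟨w, -⟩ := (pullback.snd π y).surjective (IsLocalRing.closedPoint K)
  obtain ⟨s, hs⟩ := exists_section_integral (pullback.snd π y) w
  refine ⟨s ≫ pullback.fst π y, ?_⟩
  rw [Category.assoc, pullback.condition, ← Category.assoc, hs, Category.id_comp]

/-- Descent of locally constant functions along a closed surjective morphism. -/
theorem exists_quot {Y' Y : Scheme.{u}} (π : Y' ⟶ Y) [UniversallyClosed π] [Surjective π] {E : Type} (f : Y' → E)
    (hf : IsLocallyConstant f)
    (h : ∀ (K : Type u) [Field K] [IsAlgClosed K] (x x' : Spec (CommRingCat.of K) ⟶ Y'), x ≫ π = x' ≫ π →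
      f (x default) = f (x' default)) :
    ∃ f₀ : Y → E, IsLocallyConstant f₀ ∧ ∀ y, f₀ (π y) = f y := by
  have key : ∀ y y' : Y', π y = π y' → f y = f y' := by
    intro y y' hy
    obtain ⟨z, h1, h2⟩ := Scheme.Pullback.exists_preimage_pullback y y' hy
    have h3 := h _ (K868.GeomLem.gpt z ≫ pullback.fst π π) (K868.GeomLem.gpt z ≫ pullback.snd π π) (by
      rw [Category.assoc, Category.assoc, pullback.condition])
    rw [Scheme.Hom.comp_apply, Scheme.Hom.comp_apply, K868.GeomLem.gpt_apply, h1, h2] at h3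
    exact h3
  choose s hs using π.surjective
  have h0 : ∀ y, f (s (π y)) = f y := fun y => key _ _ (hs _)
  refine ⟨fun y => f (s y), ?_, h0⟩
  have hq : Topology.IsQuotientMap π := π.isClosedMap.isQuotientMap π.continuous π.surjective
  intro S
  rw [← hq.isOpen_preimage]
  have h1 : π ⁻¹' ((fun y => f (s y)) ⁻¹' S) = f ⁻¹' S := by
    ext y
    change f (s (π y)) ∈ S ↔ f y ∈ S
    rw [h0]
  rw [h1]
  exact hf S

end points

section action

variable {X : Scheme.{u}} {G : Type} [Group G] {P : FEt.Cat X}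

/-- The action on the total space. -/
noncomputable abbrev am (ρ : G →* Aut P) (g : G) : P.left ⟶ P.left := (ρ g).hom.left

variable (ρ : G →* Aut P)

@[reassoc]
theorem am_hom (g : G) : am ρ g ≫ P.hom = P.hom := hom_w _

theorem am_one : am ρ 1 = 𝟙 _ := by
  rw [am, map_one]
  rfl

theorem am_mul (g h : G) : am ρ (g * h) = am ρ h ≫ am ρ g := by
  rw [am, map_mul]
  rfl

variable {ρ}

theorem exists_am (hP : SGA1t.IsPrincipal G P ρ) {K : Type u} [Field K] [IsAlgClosed K]
    (x x' : Spec (CommRingCat.of K) ⟶ P.left) (h : x ≫ P.hom = x' ≫ P.hom) : ∃ g : G, x' = x ≫ am ρ g := by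
  obtain ⟨g, hg, -⟩ := hP.2 K (x ≫ P.hom) ⟨x, rfl⟩ ⟨x', h.symm⟩
  exact ⟨g, (congrArg Subtype.val hg).symm⟩

theorem am_inj (hP : SGA1t.IsPrincipal G P ρ) {K : Type u} [Field K] [IsAlgClosed K]
    (x : Spec (CommRingCat.of K) ⟶ P.left) {g g' : G} (h : x ≫ am ρ g = x ≫ am ρ g') : g = g' := by
  have h2 : (x ≫ am ρ g') ≫ P.hom = x ≫ P.hom := by rw [Category.assoc, am_hom]
  exact (hP.2 K (x ≫ P.hom) ⟨x, rfl⟩ ⟨x ≫ am ρ g', h2⟩).unique (Subtype.ext h) (Subtype.ext rfl)

theorem am_inj' {K : Type u} [Field K] [IsAlgClosed K]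
    {x x' : Spec (CommRingCat.of K) ⟶ P.left} {g : G} (h : x ≫ am ρ g = x' ≫ am ρ g) : x = x' := by
  have h1 := congrArg (· ≫ am ρ g⁻¹) h
  simp only [Category.assoc, ← am_mul, inv_mul_cancel, am_one, Category.comp_id] at h1
  exact h1

/-- The difference function of two maps to a principal cover. -/
theorem exists_dif (hP : SGA1t.IsPrincipal G P ρ) {N : Scheme.{u}} (a b : N ⟶ P.left) (h : a ≫ P.hom = b ≫ P.hom) :
    ∃ δ : N → G, IsLocallyConstant δ ∧ ∀ (K : Type u) [Field K] [IsAlgClosed K] (n : Spec (CommRingCat.of K) ⟶ N),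
      n ≫ b = n ≫ a ≫ am ρ (δ (n default)) := by
  have hE : Etale P.hom := P.prop.2
  have h0 : ∀ n : N, ∃ g : G, K868.GeomLem.gpt n ≫ b = K868.GeomLem.gpt n ≫ a ≫ am ρ g := by
    intro n
    obtain ⟨g, hg⟩ := exists_am hP (K868.GeomLem.gpt n ≫ a) (K868.GeomLem.gpt n ≫ b) (by
      rw [Category.assoc, Category.assoc, h])
    exact ⟨g, by rw [hg, Category.assoc]⟩
  choose δ hδ using h0
  have hg : ∀ g : G, (a ≫ am ρ g) ≫ P.hom = b ≫ P.hom := fun g => by rw [Category.assoc, am_hom, h]
  have h1 : ∀ (g : G) (K : Type u) [Field K] (n : Spec (CommRingCat.of K) ⟶ N),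
      pullback.lift (a ≫ am ρ g) b (hg g) (n default) ∈ Set.range (pullback.diagonal P.hom) ↔
        n ≫ a ≫ am ρ g = n ≫ b := fun g K _ n => mem_eqLocus P.hom _ _ (hg g) n _
  have h2 : ∀ n : N, pullback.lift (a ≫ am ρ (δ n)) b (hg (δ n)) n ∈ Set.range (pullback.diagonal P.hom) := by
    intro n
    have := (h1 (δ n) _ (K868.GeomLem.gpt n)).2 (hδ n).symm
    rwa [K868.GeomLem.gpt_apply] at this
  refine ⟨δ, ?_, fun K _ _ n => ((h1 _ K n).1 (h2 _)).symm⟩
  rw [IsLocallyConstant.iff_isOpen_fiber]
  intro g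
  have h3 : δ ⁻¹' {g} = (pullback.lift (a ≫ am ρ g) b (hg g)) ⁻¹' (Set.range (pullback.diagonal P.hom)) := by
    ext n
    constructor
    · rintro rfl
      exact h2 n
    · intro hn
      have h4 : K868.GeomLem.gpt n ≫ a ≫ am ρ g = K868.GeomLem.gpt n ≫ b := by
        rw [← h1, K868.GeomLem.gpt_apply]
        exact hn
      rw [hδ n, ← Category.assoc, ← Category.assoc] at h4
      exact (am_inj hP _ h4).symm
  rw [h3]
  exact (pullback.diagonal P.hom).isOpenEmbedding.isOpen_range.preimage (Scheme.Hom.continuous _)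

end action

end K251.Prin
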