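import Groth.Agent.Pi1.K260.D1Pts
import Groth.Agent.Pi1.K251.Prin

/-!
# D1-ES, Part B, first half: the global principal cover

`exists_Q`: a coherent family of framed local solutions defines a principal cover `Q` of `X` with a frame
`τ : X ×_Z T ⟶ Q` such that the frames of the local solutions and `τ` have the same difference functions.
-/

set_option autoImplicit false
set_option linter.dupNamespace false
universe u

open CategoryTheory CategoryTheory.Limits AlgebraicGeometry IsLocalRing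

namespace K251.PartB1

open K260.D1 K251.Prin Groth.Agent.Pi1A.FEtAffine

variable {G : Type} [Group G] {X Z W T : Scheme.{u}} {j : X ⟶ Z} {w : W ⟶ X} {t : T ⟶ Z} {P₀ : FEt.Cat W}
  {ρ₀ : G →* Aut P₀} {A A' B B' V : Scheme.{u}} {b : B ⟶ Z} {b' : B' ⟶ Z}

/-- The structure map of `(X ×_Z T) ×_X (X ×_Z T)`. -/
noncomputable abbrev hN (j : X ⟶ Z) (t : T ⟶ Z) : pullback (pullback.fst j t) (pullback.fst j t) ⟶ Z :=
  pullback.fst _ _ ≫ pullback.fst j t ≫ j

/-- The point of `(X ×_Z T) ×_X (X ×_Z T)` with components `x`, `z₁`, `z₂`. -/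
noncomputable def nn (j : X ⟶ Z) (t : T ⟶ Z) (x : A ⟶ X) (z₁ z₂ : A ⟶ T) (e₁ : x ≫ j = z₁ ≫ t)
    (e₂ : x ≫ j = z₂ ≫ t) : A ⟶ pullback (pullback.fst j t) (pullback.fst j t) :=
  pullback.lift (pullback.lift x z₁ e₁) (pullback.lift x z₂ e₂) (by rw [pullback.lift_fst, pullback.lift_fst])

theorem nn_fst (x : A ⟶ X) (z₁ z₂ : A ⟶ T) (e₁ : x ≫ j = z₁ ≫ t) (e₂ : x ≫ j = z₂ ≫ t) :
    nn j t x z₁ z₂ e₁ e₂ ≫ pullback.fst _ _ = pullback.lift x z₁ e₁ := pullback.lift_fst _ _ _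

theorem nn_snd (x : A ⟶ X) (z₁ z₂ : A ⟶ T) (e₁ : x ≫ j = z₁ ≫ t) (e₂ : x ≫ j = z₂ ≫ t) :
    nn j t x z₁ z₂ e₁ e₂ ≫ pullback.snd _ _ = pullback.lift x z₂ e₂ := pullback.lift_snd _ _ _

theorem nn_hN (x : A ⟶ X) (z₁ z₂ : A ⟶ T) (e₁ : x ≫ j = z₁ ≫ t) (e₂ : x ≫ j = z₂ ≫ t) :
    nn j t x z₁ z₂ e₁ e₂ ≫ hN j t = x ≫ j := by
  rw [hN, ← Category.assoc, nn_fst, pullback.lift_fst_assoc]

theorem exists_nn (n : A ⟶ pullback (pullback.fst j t) (pullback.fst j t)) :
    ∃ (x : A ⟶ X) (z₁ z₂ : A ⟶ T) (e₁ : x ≫ j = z₁ ≫ t) (e₂ : x ≫ j = z₂ ≫ t), n = nn j t x z₁ z₂ e₁ e₂ := by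
  refine ⟨n ≫ pullback.fst _ _ ≫ pullback.fst j t, n ≫ pullback.fst _ _ ≫ pullback.snd j t,
    n ≫ pullback.snd _ _ ≫ pullback.snd j t, ?_, ?_, ?_⟩
  · rw [Category.assoc, Category.assoc, pullback.condition, Category.assoc, Category.assoc]
  · rw [pullback.condition, Category.assoc, Category.assoc, Category.assoc, Category.assoc, pullback.condition]
  · apply pullback.hom_ext
    · rw [nn_fst]
      apply pullback.hom_ext
      · rw [pullback.lift_fst, Category.assoc]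
      · rw [pullback.lift_snd, Category.assoc]
    · rw [nn_snd]
      apply pullback.hom_ext
      · rw [pullback.lift_fst, Category.assoc, ← pullback.condition]
      · rw [pullback.lift_snd, Category.assoc]

/-- `s` is the difference function of the frame of `F` on `V`. -/
def IsDif (F : FSol t j w P₀ ρ₀ b) (c : V ⟶ B)
    (s : ∀ (K : Type u) [Field K], (Spec (CommRingCat.of K) ⟶ pullback (pullback.fst j t) (pullback.fst j t)) →
      (Spec (CommRingCat.of K) ⟶ V) → G) : Prop :=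
  ∀ (K : Type u) [Field K] [IsAlgClosed K] (x : Spec (CommRingCat.of K) ⟶ X)
    (z₁ z₂ : Spec (CommRingCat.of K) ⟶ T) (l : Spec (CommRingCat.of K) ⟶ V) (e : x ≫ j = (l ≫ c) ≫ b)
    (e₁ : z₁ ≫ t = (l ≫ c) ≫ b) (e₂ : z₂ ≫ t = (l ≫ c) ≫ b),
    xp j t b x z₂ (l ≫ c) e e₂ ≫ F.τ = (xp j t b x z₁ (l ≫ c) e e₁ ≫ F.τ) ≫
      am F.S.ρ (s K (nn j t x z₁ z₂ (e.trans e₁.symm) (e.trans e₂.symm)) l)

/-- The value of a function on a fibre product at a pair of points. -/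
noncomputable def pev {N V Z : Scheme.{u}} {h : N ⟶ Z} {a : V ⟶ Z} (s : ↥(pullback h a) → G)
    (K : Type u) [Field K] (n : Spec (CommRingCat.of K) ⟶ N) (l : Spec (CommRingCat.of K) ⟶ V) : G :=
  open Classical in if e : n ≫ h = l ≫ a then s (pullback.lift n l e default) else 1

theorem pev_eq {N V Z : Scheme.{u}} {h : N ⟶ Z} {a : V ⟶ Z} (s : ↥(pullback h a) → G)
    (K : Type u) [Field K] (n : Spec (CommRingCat.of K) ⟶ N) (l : Spec (CommRingCat.of K) ⟶ V)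
    (e : n ≫ h = l ≫ a) : pev s K n l = s (pullback.lift n l e default) := dif_pos e

theorem xp_tau_hom (F : FSol t j w P₀ ρ₀ b) (x : A ⟶ X) (z : A ⟶ T) (l : A ⟶ B) (e : x ≫ j = l ≫ b)
    (e' : z ≫ t = l ≫ b) : (xp j t b x z l e e' ≫ F.τ) ≫ F.S.P.hom = pullback.lift x l e := by
  rw [Category.assoc, F.τ_hom, xp_fst]

theorem comp_xp_tau (F : FSol t j w P₀ ρ₀ b) (k : A' ⟶ A) {x : A ⟶ X} {y : A ⟶ T} {l : A ⟶ B} {e : x ≫ j = l ≫ b}
    {e' : y ≫ t = l ≫ b} {x' : A' ⟶ X} {y' : A' ⟶ T} {l' : A' ⟶ B} (hx : k ≫ x = x') (hy : k ≫ y = y')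
    (hl : k ≫ l = l') (f : x' ≫ j = l' ≫ b) (f' : y' ≫ t = l' ≫ b) :
    k ≫ xp j t b x y l e e' ≫ F.τ = xp j t b x' y' l' f f' ≫ F.τ := by
  subst hx hy hl
  rw [← Category.assoc, comp_xp k x y l e e' f f']

/-- Difference functions exist. -/
theorem exists_isDif (F : FSol t j w P₀ ρ₀ b) (c : V ⟶ B) (a : V ⟶ Z) (hc : c ≫ b = a) :
    ∃ s : ↥(pullback (hN j t) a) → G, IsLocallyConstant s ∧
      IsDif F c (pev s) := by
  subst hc
  let q := pullback.fst (hN j t) (c ≫ b)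
  let l₀ := pullback.snd (hN j t) (c ≫ b)
  have hq : q ≫ hN j t = l₀ ≫ c ≫ b := pullback.condition
  obtain ⟨xx, z₁, z₂, h1, h2, hn⟩ := exists_nn q
  have hx : xx ≫ j = (l₀ ≫ c) ≫ b := by
    rw [hn, nn_hN] at hq
    rw [hq, Category.assoc]
  obtain ⟨s, hs, hs'⟩ := exists_dif F.S.prin (xp j t b xx z₁ (l₀ ≫ c) hx (h1.symm.trans hx) ≫ F.τ)
    (xp j t b xx z₂ (l₀ ≫ c) hx (h2.symm.trans hx) ≫ F.τ) (by rw [xp_tau_hom, xp_tau_hom])
  refine ⟨s, hs, ?_⟩
  intro K _ _ x y₁ y₂ l e e₁ e₂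
  have f : nn j t x y₁ y₂ (e.trans e₁.symm) (e.trans e₂.symm) ≫ hN j t = l ≫ c ≫ b := by
    rw [nn_hN, e, Category.assoc]
  rw [pev_eq _ _ _ _ f]
  set n := pullback.lift (nn j t x y₁ y₂ (e.trans e₁.symm) (e.trans e₂.symm)) l f with hn'
  have hnq : n ≫ q = nn j t x y₁ y₂ (e.trans e₁.symm) (e.trans e₂.symm) := pullback.lift_fst _ _ _
  have hnl : n ≫ l₀ = l := pullback.lift_snd _ _ _
  have k1 := congrArg (· ≫ pullback.fst _ _) hnq
  have k2 := congrArg (· ≫ pullback.snd _ _) hnq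
  simp only [hn, Category.assoc, nn_fst, nn_snd] at k1 k2
  have kx := congrArg (· ≫ pullback.fst _ _) k1
  have kz₁ := congrArg (· ≫ pullback.snd _ _) k1
  have kz₂ := congrArg (· ≫ pullback.snd _ _) k2
  simp only [Category.assoc, pullback.lift_fst, pullback.lift_snd] at kx kz₁ kz₂
  have kl : n ≫ l₀ ≫ c = l ≫ c := by rw [← Category.assoc, hnl]
  have key := hs' K n
  rw [comp_xp_tau F n kx kz₂ kl e e₂, ← Category.assoc, comp_xp_tau F n kx kz₁ kl e e₁] at key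
  exact key

/-- Difference functions of coherent frames agree. -/
theorem coh {F : FSol t j w P₀ ρ₀ b} {F' : FSol t j w P₀ ρ₀ b'} {V V' : Scheme.{u}} {a : V ⟶ Z} {a' : V' ⟶ Z}
    {s : ↥(pullback (hN j t) a) → G} {s' : ↥(pullback (hN j t) a') → G} {c : V ⟶ B} (hc : c ≫ b = a)
    {c' : V' ⟶ B'} (hc' : c' ≫ b' = a') (hs : IsDif F c (pev s)) (hs' : IsDif F' c' (pev s')) (y : ↥(pullback a a'))
    (hcoh : CohAt F F' (pullback.map a a' b b' c c' (𝟙 Z) (by rw [Category.comp_id, hc])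
      (by rw [Category.comp_id, hc']) y)) :
    ∃ (M : Scheme.{u}) (m : M ⟶ V) (m' : M ⟶ V') (hm : m ≫ a = m' ≫ a') (_ : Etale (pullback.lift m m' hm))
      (y' : M) (_ : pullback.lift m m' hm y' = y),
      ∀ (K : Type u) [Field K] [IsAlgClosed K]
        (n : Spec (CommRingCat.of K) ⟶ pullback (pullback.fst j t) (pullback.fst j t))
        (l : Spec (CommRingCat.of K) ⟶ M) (e : n ≫ hN j t = (l ≫ m) ≫ a) (e' : n ≫ hN j t = (l ≫ m') ≫ a'),
        s (pullback.lift n (l ≫ m) e default) = s' (pullback.lift n (l ≫ m') e' default) := by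
  obtain ⟨M₀, μ, μ', h₀, hE, y₀, hy₀, δ, hδ, h1⟩ := hcoh
  set pm := pullback.map a a' b b' c c' (𝟙 Z) (by rw [Category.comp_id, hc]) (by rw [Category.comp_id, hc']) with hpm
  have pm1 : pm ≫ pullback.fst b b' = pullback.fst a a' ≫ c := pullback.lift_fst _ _ _
  have pm2 : pm ≫ pullback.snd b b' = pullback.snd a a' ≫ c' := pullback.lift_snd _ _ _
  obtain ⟨y', hy1, hy2⟩ := Scheme.Pullback.exists_preimage_pullback (f := pullback.lift μ μ' h₀.symm) (g := pm)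
    y₀ y hy₀
  set q₀ := pullback.fst (pullback.lift μ μ' h₀.symm) pm with hq₀
  set q₁ := pullback.snd (pullback.lift μ μ' h₀.symm) pm with hq₁
  have hcond : q₀ ≫ pullback.lift μ μ' h₀.symm = q₁ ≫ pm := pullback.condition
  have k1 : q₀ ≫ μ = (q₁ ≫ pullback.fst a a') ≫ c := by
    have := congrArg (· ≫ pullback.fst b b') hcond
    simpa only [Category.assoc, pullback.lift_fst, pm1] using this
  have k2 : q₀ ≫ μ' = (q₁ ≫ pullback.snd a a') ≫ c' := by
    have := congrArg (· ≫ pullback.snd b b') hcond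
    simpa only [Category.assoc, pullback.lift_snd, pm2] using this
  have hm : (q₁ ≫ pullback.fst a a') ≫ a = (q₁ ≫ pullback.snd a a') ≫ a' := by
    rw [Category.assoc, pullback.condition, Category.assoc]
  have hl : pullback.lift (q₁ ≫ pullback.fst a a') (q₁ ≫ pullback.snd a a') hm = q₁ := by
    apply pullback.hom_ext
    · rw [pullback.lift_fst]
    · rw [pullback.lift_snd]
  refine ⟨_, q₁ ≫ pullback.fst a a', q₁ ≫ pullback.snd a a', hm, by rw [hl]; infer_instance, y', by rw [hl, hy2], ?_⟩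
  intro K _ _ n l e e'
  obtain ⟨x, z₁, z₂, e₁, e₂, rfl⟩ := exists_nn n
  have c1 : (l ≫ q₁ ≫ pullback.fst a a') ≫ c = (l ≫ q₀) ≫ μ := by
    rw [Category.assoc l, Category.assoc l, k1]
  have c2 : (l ≫ q₁ ≫ pullback.snd a a') ≫ c' = (l ≫ q₀) ≫ μ' := by
    rw [Category.assoc l, Category.assoc l, k2]
  have f1 : x ≫ j = ((l ≫ q₁ ≫ pullback.fst a a') ≫ c) ≫ b := by
    rw [nn_hN] at e
    rw [e, Category.assoc _ c, hc]
  have f2 : x ≫ j = ((l ≫ q₁ ≫ pullback.snd a a') ≫ c') ≫ b' := by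
    rw [nn_hN] at e'
    rw [e', Category.assoc _ c', hc']
  have r1 := hs K x z₁ z₂ _ f1 (e₁.symm.trans f1) (e₂.symm.trans f1)
  have r2 := hs' K x z₁ z₂ _ f2 (e₁.symm.trans f2) (e₂.symm.trans f2)
  rw [pev_eq _ _ _ _ e] at r1
  rw [pev_eq _ _ _ _ e'] at r2
  set g := s (pullback.lift _ _ e default) with hg
  set g' := s' (pullback.lift _ _ e' default) with hg'
  have f1' : x ≫ j = ((l ≫ q₀) ≫ μ) ≫ b := by rw [← c1, f1]
  have f2' : x ≫ j = ((l ≫ q₀) ≫ μ') ≫ b' := by rw [← c2, f2]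
  rw [xp_congr rfl rfl c1 _ _ f1' (e₂.symm.trans f1'), xp_congr rfl rfl c1 _ _ f1' (e₁.symm.trans f1')] at r1
  rw [xp_congr rfl rfl c2 _ _ f2' (e₂.symm.trans f2'), xp_congr rfl rfl c2 _ _ f2' (e₁.symm.trans f2')] at r2
  have h11 := h1 K x z₁ (l ≫ q₀) f1' (e₁.symm.trans f1') f2' (e₁.symm.trans f2')
  have h12 := h1 K x z₂ (l ≫ q₀) f1' (e₂.symm.trans f1') f2' (e₂.symm.trans f2')
  have hact := hδ.act K _ _ (l ≫ q₀) (F.xp_τ_snd x z₁ _ f1' (e₁.symm.trans f1'))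
    (F'.xp_τ_snd x z₁ _ f2' (e₁.symm.trans f2'))
    ((F.xp_τ_fst _ _ _ _ _).trans (F'.xp_τ_fst _ _ _ _ _).symm) g g'
    (by rw [← r1]; exact F.xp_τ_snd _ _ _ _ _) (by rw [← r2]; exact F'.xp_τ_snd _ _ _ _ _)
    (by rw [← r1, ← r2]; exact (F.xp_τ_fst _ _ _ _ _).trans (F'.xp_τ_fst _ _ _ _ _).symm)
  rw [h11, dp_congr F.S F'.S μ rfl μ' h₀ r1.symm r2.symm rfl _ _ _ (F.xp_τ_snd _ _ _ _ _)
    (F'.xp_τ_snd _ _ _ _ _) ((F.xp_τ_fst _ _ _ _ _).trans (F'.xp_τ_fst _ _ _ _ _).symm), h12, mul_one] at hact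
  exact (mul_inv_eq_one.1 hact.symm).symm

/-- The gluing of the difference functions of a coherent family. -/
theorem exists_dif_glob (hG : Glue.{u}) {R : Type u} [CommRing R] [IsLocalRing R] (hR : HenselianLocalRing R)
    (hR' : IsSepClosed (ResidueField R)) (p : Z ⟶ Spec (CommRingCat.of R)) (hp : IsProper p) (hj : IsOpenImmersion j)
    (hjq : QuasiCompact j) (ht : IsIntegralHom t) [Finite G] {I : Type u} {B : I → Scheme.{u}} {b : ∀ i, B i ⟶ Z}
    (F : ∀ i, FSol t j w P₀ ρ₀ (b i)) (hb : ∀ i, Etale (b i))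
    (hcov : ∀ z : Z, p z = closedPoint R → ∃ i, z ∈ Set.range (b i))
    (hcoh : ∀ i i' (y : ↥(pullback (b i) (b i'))), p (b i (pullback.fst (b i) (b i') y)) = closedPoint R →
      CohAt (F i) (F i') y) :
    ∃ s : ↥(pullback (pullback.fst j t) (pullback.fst j t)) → G, IsLocallyConstant s ∧
      ∀ z : Z, ∃ (i : I) (V : Scheme.{u}) (a : V ⟶ Z) (_ : Etale a) (v : V) (_ : a v = z) (c : V ⟶ B i)
        (_ : c ≫ b i = a), IsDif (F i) c (fun _ _ n _ => s (n default)) := by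
  obtain ⟨s, hs, hs'⟩ := hG R hR hR' p hp (hN j t) inferInstance inferInstance G
    (fun V a s => ∃ (i : I) (c : V ⟶ B i) (_ : c ≫ b i = a), IsDif (F i) c (pev s))
    (by
      intro z hz
      obtain ⟨i, v, hv⟩ := hcov z hz
      obtain ⟨s, hs, hs'⟩ := exists_isDif (F i) (𝟙 _) (b i) (Category.id_comp _)
      exact ⟨_, b i, hb i, v, hv, s, hs, i, 𝟙 _, Category.id_comp _, hs'⟩)
    (by
      intro V V' a a' ha ha' s s' hs hs' h h' y hy
      obtain ⟨i, c, hc, h⟩ := h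
      obtain ⟨i', c', hc', h'⟩ := h'
      refine coh hc hc' h h' y (hcoh i i' _ ((congrArg p ?_).trans hy))
      subst hc hc'
      exact congrArg (fun f : pullback (c ≫ b i) (c' ≫ b i') ⟶ B i => b i (f y)) (pullback.lift_fst _ _ _))
  refine ⟨s, hs, fun z => ?_⟩
  obtain ⟨V, a, ha, v, hv, r, hr, ⟨i, c, hc, h⟩, O, hvO, hO⟩ := hs' z
  refine ⟨i, O.toScheme, O.ι ≫ a, inferInstance, ⟨v, hvO⟩, by rw [Scheme.Hom.comp_apply]; exact hv, O.ι ≫ c,
    by rw [Category.assoc, hc], ?_⟩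
  intro K _ _ x z₁ z₂ l e e₁ e₂
  have h0 : (l ≫ O.ι) ≫ c = l ≫ O.ι ≫ c := Category.assoc _ _ _
  have e' : x ≫ j = ((l ≫ O.ι) ≫ c) ≫ b i := by rw [h0, e]
  have k := h K x z₁ z₂ (l ≫ O.ι) e' (by rw [h0, e₁]) (by rw [h0, e₂])
  have f : nn j t x z₁ z₂ (e.trans e₁.symm) (e.trans e₂.symm) ≫ hN j t = (l ≫ O.ι) ≫ a := by
    rw [nn_hN, e', Category.assoc _ c, hc]
  rw [pev_eq _ _ _ _ f, xp_congr rfl rfl h0 _ _ e e₂, xp_congr rfl rfl h0 _ _ e e₁] at k
  have k2 := hO (pullback.lift _ _ f default) (by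
    rw [← Scheme.Hom.comp_apply, pullback.lift_snd, Scheme.Hom.comp_apply]
    exact (l default).2)
  rw [← Scheme.Hom.comp_apply, pullback.lift_fst] at k2
  rw [k, ← k2]

/-- **The first half of Part B**: the principal cover defined by a coherent family. -/
theorem exists_Q (hG : Glue.{u}) (hD : TrivDesc.{u}) {R : Type u} [CommRing R] [IsLocalRing R]
    (hR : HenselianLocalRing R) (hR' : IsSepClosed (ResidueField R)) (p : Z ⟶ Spec (CommRingCat.of R))
    (hp : IsProper p) (hj : IsOpenImmersion j) (hjq : QuasiCompact j) (ht : AicCov j t) [Finite G] {I : Type u}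
    {B : I → Scheme.{u}} {b : ∀ i, B i ⟶ Z} (F : ∀ i, FSol t j w P₀ ρ₀ (b i)) (hb : ∀ i, Etale (b i))
    (hcov : ∀ z : Z, p z = closedPoint R → ∃ i, z ∈ Set.range (b i))
    (hcoh : ∀ i i' (y : ↥(pullback (b i) (b i'))), p (b i (pullback.fst (b i) (b i') y)) = closedPoint R →
      CohAt (F i) (F i') y) :
    ∃ (Q : FEt.Cat X) (ρ : G →* Aut Q) (_ : SGA1t.IsPrincipal G Q ρ) (τ : pullback j t ⟶ Q.left)
      (_ : τ ≫ Q.hom = pullback.fst j t),
      ∀ z : Z, ∃ (i : I) (V : Scheme.{u}) (a : V ⟶ Z) (_ : Etale a) (v : V) (_ : a v = z) (c : V ⟶ B i)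
        (_ : c ≫ b i = a), ∀ (K : Type u) [Field K] [IsAlgClosed K] (x : Spec (CommRingCat.of K) ⟶ X)
        (z₁ z₂ : Spec (CommRingCat.of K) ⟶ T) (l : Spec (CommRingCat.of K) ⟶ V) (e : x ≫ j = (l ≫ c) ≫ b i)
        (e₁ : z₁ ≫ t = (l ≫ c) ≫ b i) (e₂ : z₂ ≫ t = (l ≫ c) ≫ b i) (g : G),
        xp j t (b i) x z₂ (l ≫ c) e e₂ ≫ (F i).τ =
          (xp j t (b i) x z₁ (l ≫ c) e e₁ ≫ (F i).τ) ≫ ((F i).S.ρ g).hom.left →
        pullback.lift x z₂ (e.trans e₂.symm) ≫ τ = (pullback.lift x z₁ (e.trans e₁.symm) ≫ τ) ≫ (ρ g).hom.left := by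
  have hti : IsIntegralHom t := ht.integral
  obtain ⟨s, hs, hloc⟩ := exists_dif_glob hG hR hR' p hp hj hjq hti F hb hcov hcoh
  -- the cocycle condition
  have hcoc : Cocyc (fun _ : Unit => pullback j t) (fun _ => pullback.fst j t) G (fun _ _ => s) := by
    refine ⟨fun _ _ => hs, ?_⟩
    intro _ _ _ K _ _ x y z h h'
    obtain ⟨i, V, a, ha, v, hv, c, hc, hdif⟩ := hloc ((x ≫ pullback.fst j t ≫ j) default)
    obtain ⟨l, hl⟩ := exists_lift_range a (x ≫ pullback.fst j t ≫ j) default ⟨v, hv⟩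
    have ex : (x ≫ pullback.fst j t) ≫ j = (l ≫ c) ≫ b i := by rw [Category.assoc, ← hl, Category.assoc, hc]
    have e1 : (x ≫ pullback.snd j t) ≫ t = (l ≫ c) ≫ b i := by
      rw [← ex, Category.assoc, Category.assoc, pullback.condition]
    have e2 : (y ≫ pullback.snd j t) ≫ t = (l ≫ c) ≫ b i := by
      rw [← ex, h, Category.assoc, Category.assoc, pullback.condition]
    have e3 : (z ≫ pullback.snd j t) ≫ t = (l ≫ c) ≫ b i := by
      rw [← ex, h, h', Category.assoc, Category.assoc, pullback.condition]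
    have r12 := hdif K _ _ _ l ex e1 e2
    have r23 := hdif K _ _ _ l ex e2 e3
    have r13 := hdif K _ _ _ l ex e1 e3
    have n12 : nn j t (x ≫ pullback.fst j t) (x ≫ pullback.snd j t) (y ≫ pullback.snd j t) (ex.trans e1.symm)
        (ex.trans e2.symm) = pullback.lift x y h := by
      apply pullback.hom_ext
      · rw [nn_fst, pullback.lift_fst]
        apply pullback.hom_ext
        · rw [pullback.lift_fst]
        · rw [pullback.lift_snd]
      · rw [nn_snd, pullback.lift_snd]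
        apply pullback.hom_ext
        · rw [pullback.lift_fst, h]
        · rw [pullback.lift_snd]
    have n23 : nn j t (x ≫ pullback.fst j t) (y ≫ pullback.snd j t) (z ≫ pullback.snd j t) (ex.trans e2.symm)
        (ex.trans e3.symm) = pullback.lift y z h' := by
      apply pullback.hom_ext
      · rw [nn_fst, pullback.lift_fst]
        apply pullback.hom_ext
        · rw [pullback.lift_fst, h]
        · rw [pullback.lift_snd]
      · rw [nn_snd, pullback.lift_snd]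
        apply pullback.hom_ext
        · rw [pullback.lift_fst, h, h']
        · rw [pullback.lift_snd]
    have n13 : nn j t (x ≫ pullback.fst j t) (x ≫ pullback.snd j t) (z ≫ pullback.snd j t) (ex.trans e1.symm)
        (ex.trans e3.symm) = pullback.lift x z (h.trans h') := by
      apply pullback.hom_ext
      · rw [nn_fst, pullback.lift_fst]
        apply pullback.hom_ext
        · rw [pullback.lift_fst]
        · rw [pullback.lift_snd]
      · rw [nn_snd, pullback.lift_snd]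
        apply pullback.hom_ext
        · rw [pullback.lift_fst, h, h']
        · rw [pullback.lift_snd]
    rw [n12] at r12
    rw [n23, r12, Category.assoc, ← am_mul] at r23
    rw [n13, r23] at r13
    exact (am_inj (F i).S.prin _ r13).symm
  have hcf : CovFam (fun _ : Unit => pullback j t) (fun _ => pullback.fst j t) := by
    refine ⟨fun x => ⟨(), ?_⟩, Or.inr fun _ => inferInstance⟩
    obtain ⟨y, hy⟩ := ht.surj x
    obtain ⟨q, hq, -⟩ := Scheme.Pullback.exists_preimage_pullback x y hy.symm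
    exact ⟨q, hq⟩
  obtain ⟨Q, ρ, hQ, τ, hτ, hτ'⟩ := hD Unit _ _ hcf G _ hcoc
  refine ⟨Q, ρ, hQ, τ (), hτ (), fun z => ?_⟩
  obtain ⟨i, V, a, ha, v, hv, c, hc, hdif⟩ := hloc z
  refine ⟨i, V, a, ha, v, hv, c, hc, ?_⟩
  intro K _ _ x z₁ z₂ l e e₁ e₂ g hg
  have h1 := hdif K x z₁ z₂ l e e₁ e₂
  rw [hg] at h1
  have h2 := am_inj (F i).S.prin _ h1
  have h3 := hτ' () () K (pullback.lift x z₁ (e.trans e₁.symm)) (pullback.lift x z₂ (e.trans e₂.symm))
    (by rw [pullback.lift_fst, pullback.lift_fst])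
  rw [h2]
  exact h3.trans (Category.assoc _ _ _).symm

end K251.PartB1
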